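import Mathlib
import Groth.Agent.Lib.Helper2.ValSemigroup

/-!
# Rank-one torsion-free modules over a monomial curve singularity

* `exists_injective_to_self`: a finitely generated torsion-free module of rank one over a domain
  `A` embeds `A`-linearly into `A`.
* `exists_lattice`: for `A ⊆ k[[t]]` the monomial ring of a numerical semigroup `Γ` with `δ` gaps,
  every nonzero `A`-submodule `N` of `k[[t]]` is isomorphic to an `A`-submodule `M'` with
  `t^{2δ} k[[t]] ⊆ M'` and `dim k[[t]]/M' = δ`.
-/

namespace Groth.Agent.H8.TFCurv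

open PowerSeries

section embed

variable {A : Type*} [CommRing A] [IsDomain A] {M : Type*} [AddCommGroup M] [Module A M]

theorem mk_injective_of_noZeroSMulDivisors [NoZeroSMulDivisors A M] :
    Function.Injective (TensorProduct.mk A (FractionRing A) M 1) := by
  haveI : IsLocalizedModule (nonZeroDivisors A) (TensorProduct.mk A (FractionRing A) M 1) :=
    (isLocalizedModule_iff_isBaseChange (nonZeroDivisors A) (FractionRing A) _).mpr
      (TensorProduct.isBaseChange A M (FractionRing A))
  rw [← LinearMap.ker_eq_bot, LinearMap.ker_eq_bot']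
  intro m hm
  obtain ⟨s, hs⟩ := (IsLocalizedModule.eq_zero_iff (nonZeroDivisors A) _).mp hm
  have hs' : (s : A) • m = 0 := hs
  rcases smul_eq_zero.mp hs' with h | h
  · exact absurd h (nonZeroDivisors.coe_ne_zero s)
  · exact h

theorem exists_injective_to_self [Module.Finite A M] [NoZeroSMulDivisors A M]
    (hrk : Module.finrank (FractionRing A) (TensorProduct A (FractionRing A) M) = 1) :
    ∃ ψ : M →ₗ[A] A, Function.Injective ψ := by
  classical
  haveI : Module.Finite (FractionRing A) (TensorProduct A (FractionRing A) M) :=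
    Module.finite_of_finrank_pos (by rw [hrk]; exact one_pos)
  let φ : TensorProduct A (FractionRing A) M ≃ₗ[FractionRing A] FractionRing A :=
    LinearEquiv.ofFinrankEq _ _ (by rw [hrk, Module.finrank_self])
  let ψ₀ : M →ₗ[A] FractionRing A :=
    (φ.toLinearMap.restrictScalars A).comp (TensorProduct.mk A (FractionRing A) M 1)
  have hψ₀ : Function.Injective ψ₀ := fun x y hxy =>
    mk_injective_of_noZeroSMulDivisors (φ.injective hxy)
  obtain ⟨S, hS⟩ := (Module.Finite.fg_top : (⊤ : Submodule A M).FG)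
  obtain ⟨d, hd⟩ := IsLocalization.exist_integer_multiples_of_finset (nonZeroDivisors A)
    (S.image ψ₀)
  have hint : ∀ m : M, ∃ a : A, algebraMap A (FractionRing A) a = (d : A) • ψ₀ m := by
    intro m
    have hm : m ∈ Submodule.span A (S : Set M) := by rw [hS]; trivial
    induction hm using Submodule.span_induction with
    | mem x hx => exact hd (ψ₀ x) (Finset.mem_image_of_mem _ hx)
    | zero => exact ⟨0, by simp⟩
    | add x y _ _ hx hy =>
      obtain ⟨a, ha⟩ := hx
      obtain ⟨b, hb⟩ := hy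
      exact ⟨a + b, by rw [map_add, map_add, smul_add, ha, hb]⟩
    | smul r x _ hx =>
      obtain ⟨a, ha⟩ := hx
      exact ⟨r * a, by rw [map_mul, ha, map_smul, smul_comm, Algebra.smul_def r]⟩
  choose g hg using hint
  have hdK : algebraMap A (FractionRing A) (d : A) ≠ 0 := by
    intro h
    exact nonZeroDivisors.coe_ne_zero d
      (IsFractionRing.injective A (FractionRing A) (by rw [h, map_zero]))
  refine ⟨{ toFun := g, map_add' := ?_, map_smul' := ?_ }, ?_⟩
  · intro x y
    apply IsFractionRing.injective A (FractionRing A)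
    rw [map_add, hg, hg, hg, map_add, smul_add]
  · intro r x
    apply IsFractionRing.injective A (FractionRing A)
    simp only [RingHom.id_apply]
    rw [hg, smul_eq_mul, map_mul, hg, map_smul, smul_comm, Algebra.smul_def r]
  · intro x y hxy
    have hxy' : g x = g y := hxy
    have h1 : (d : A) • ψ₀ x = (d : A) • ψ₀ y := by rw [← hg, ← hg, hxy']
    apply hψ₀
    rw [Algebra.smul_def, Algebra.smul_def] at h1
    exact mul_left_cancel₀ hdK h1

end embed

section main

variable {k : Type*} [Field k]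

/-- multiplication by `X ^ e` as an `A`-linear endomorphism of `k[[t]]`. -/
noncomputable def mulX (A : Subalgebra k (PowerSeries k)) (e : ℕ) :
    PowerSeries k →ₗ[↥A] PowerSeries k where
  toFun h := (X : PowerSeries k) ^ e * h
  map_add' := mul_add _
  map_smul' s h := by
    show (X : PowerSeries k) ^ e * ((s : PowerSeries k) * h) = (s : PowerSeries k) * (X ^ e * h)
    ring

@[simp] theorem mulX_apply (A : Subalgebra k (PowerSeries k)) (e : ℕ) (h : PowerSeries k) :
    mulX A e h = (X : PowerSeries k) ^ e * h := rfl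

theorem mulX_injective (A : Subalgebra k (PowerSeries k)) (e : ℕ) :
    Function.Injective (mulX A e) := by
  intro x y hxy
  exact mul_left_cancel₀ (pow_ne_zero e X_ne_zero) hxy

theorem X_pow_dvd_of_le_order (f : PowerSeries k) (n : ℕ) (h : (n : ℕ∞) ≤ order f) :
    (X : PowerSeries k) ^ n ∣ f := by
  rw [X_pow_dvd_iff]
  intro m hm
  exact coeff_of_lt_order m (lt_of_lt_of_le (by exact_mod_cast hm) h)

theorem exists_lattice (A : Subalgebra k (PowerSeries k))
    (Γ : Set ℕ) (hΓ : ∀ n : ℕ, n ∈ Γ ↔ ∃ f ∈ A, PowerSeries.order f = n)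
    (hmono : ∀ f : PowerSeries k, f ∈ A ↔ ∀ n : ℕ, PowerSeries.coeff n f ≠ 0 → n ∈ Γ)
    (c : ℕ) (hc : ∀ f : PowerSeries k, (c : ℕ∞) ≤ order f → f ∈ A)
    (N : Submodule ↥A (PowerSeries k)) (hN : ∃ g ∈ N, g ≠ 0) :
    ∃ M' : Submodule ↥A (PowerSeries k),
      (Ideal.span {(X : PowerSeries k) ^ (2 * Γᶜ.ncard)}).restrictScalars ↥A ≤ M' ∧
      Nonempty (↥N ≃ₗ[↥A] ↥M') ∧
      Module.finrank k (PowerSeries k ⧸ M'.restrictScalars k) = Γᶜ.ncard := by
  classical
  -- gaps of Γ are finite
  have hfinΓ : Γᶜ.Finite :=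
    Groth.Agent.H2.ValSemigroup.gaps_finite (Subalgebra.toSubmodule A) c
      (fun f hf => hc f hf) Γ (fun n => hΓ n)
  -- monomials of Γ lie in A
  have hXA : ∀ n ∈ Γ, (X : PowerSeries k) ^ n ∈ A := by
    intro n hn
    rw [hmono]
    intro m hm
    rw [coeff_X_pow] at hm
    by_cases hmn : m = n
    · rw [hmn]; exact hn
    · rw [if_neg hmn] at hm; exact absurd rfl hm
  -- minimal order in N
  have hex : ∃ n : ℕ, ∃ g ∈ N, order g = (n : ℕ∞) := by
    obtain ⟨g, hgN, hg0⟩ := hN
    exact ⟨(order g).toNat, g, hgN, (coe_toNat_order hg0).symm⟩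
  obtain ⟨g, hgN, hga⟩ := Nat.find_spec hex
  set a := Nat.find hex with ha
  have hmin : ∀ n ∈ N, n ≠ 0 → (a : ℕ∞) ≤ order n := by
    intro n hn hn0
    have h1 : a ≤ (order n).toNat := Nat.find_min' hex ⟨n, hn, (coe_toNat_order hn0).symm⟩
    rw [← coe_toNat_order hn0]
    exact_mod_cast h1
  have hdvd : ∀ n ∈ N, (X : PowerSeries k) ^ a ∣ n := by
    intro n hn
    by_cases hn0 : n = 0
    · rw [hn0]; exact dvd_zero _
    · exact X_pow_dvd_of_le_order n a (hmin n hn hn0)
  -- the normalised module
  set N₁ : Submodule ↥A (PowerSeries k) := N.comap (mulX A a) with hN₁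
  have hmemN₁ : ∀ h : PowerSeries k, h ∈ N₁ ↔ (X : PowerSeries k) ^ a * h ∈ N := fun h => Iff.rfl
  have e₁ : ↥N₁ ≃ₗ[↥A] ↥N := by
    refine LinearEquiv.ofBijective ((mulX A a).restrict (p := N₁) (q := N) (fun x hx => hx))
      ⟨?_, ?_⟩
    · intro x y hxy
      apply Subtype.ext
      apply mulX_injective A a
      exact congrArg Subtype.val hxy
    · intro n
      obtain ⟨h, hh⟩ := hdvd n.1 n.2
      refine ⟨⟨h, ?_⟩, ?_⟩
      · rw [hmemN₁, ← hh]; exact n.2
      · apply Subtype.ext
        exact hh.symm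
  -- an element of order zero
  obtain ⟨u, hu⟩ := hdvd g hgN
  have huN₁ : u ∈ N₁ := by rw [hmemN₁, ← hu]; exact hgN
  have hu0 : order u = 0 := by
    have h1 : order g = (a : ℕ∞) + order u := by rw [hu, order_mul, order_X_pow]
    rw [hga] at h1
    generalize order u = o at h1 ⊢
    induction o using ENat.recTopCoe with
    | top => simp at h1
    | coe m =>
      have h2 : a = a + m := by exact_mod_cast h1
      have h3 : m = 0 := by omega
      rw [h3]; rfl
  have hune : u ≠ 0 := by
    rintro rfl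
    simp at hu0
  have hcc : constantCoeff u ≠ 0 := by
    have h1 := coeff_order hune
    rwa [hu0, ENat.toNat_zero, coeff_zero_eq_constantCoeff_apply] at h1
  have hunit : IsUnit u := isUnit_iff_constantCoeff.mpr (isUnit_iff_ne_zero.mpr hcc)
  obtain ⟨uu, huu⟩ := hunit
  -- conductor of N₁
  have hPc : ∀ f : PowerSeries k, (c : ℕ∞) ≤ order f → f ∈ N₁ := by
    intro f hf
    have h1 : f * ((uu⁻¹ : (PowerSeries k)ˣ) : PowerSeries k) ∈ A :=
      hc _ (by rw [order_mul]; exact le_trans hf le_self_add)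
    have h2 : (⟨_, h1⟩ : ↥A) • u ∈ N₁ := N₁.smul_mem _ huN₁
    have h3 : (⟨_, h1⟩ : ↥A) • u = f := by
      show f * ((uu⁻¹ : (PowerSeries k)ˣ) : PowerSeries k) * u = f
      rw [← huu, mul_assoc, Units.inv_mul, mul_one]
    rwa [h3] at h2
  -- the value set of N₁
  set Δ : Set ℕ := {n | ∃ f ∈ N₁, order f = (n : ℕ∞)} with hΔdef
  have hΔ : ∀ n : ℕ, n ∈ Δ ↔ ∃ f ∈ N₁.restrictScalars k, order f = (n : ℕ∞) := fun n => Iff.rfl
  have hfinΔ : Δᶜ.Finite :=
    Groth.Agent.H2.ValSemigroup.gaps_finite (N₁.restrictScalars k) c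
      (fun f hf => hPc f hf) Δ hΔ
  have hΓΔ : Γ ⊆ Δ := by
    intro n hn
    refine ⟨(X : PowerSeries k) ^ n * u, ?_, ?_⟩
    · exact N₁.smul_mem (⟨_, hXA n hn⟩ : ↥A) huN₁
    · rw [order_mul, order_X_pow, hu0, add_zero]
  have hΔle : Δᶜ.ncard ≤ Γᶜ.ncard :=
    Set.ncard_le_ncard (Set.compl_subset_compl.mpr hΓΔ) hfinΓ
  -- minimal conductor of N₁
  have hexP : ∃ c' : ℕ, ∀ f : PowerSeries k, (c' : ℕ∞) ≤ order f → f ∈ N₁ := ⟨c, hPc⟩
  have hPc' := Nat.find_spec hexP
  set c' := Nat.find hexP with hc'
  have hkey : ∀ n ∈ Γ, n < c' → c' - 1 - n ∉ Δ := by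
    rintro n hnΓ hnc ⟨h, hhN, hho⟩
    apply Nat.find_min hexP (m := c' - 1) (by omega)
    intro f hf
    set g' : PowerSeries k := (X : PowerSeries k) ^ n * h with hg'
    have hg'N : g' ∈ N₁ := N₁.smul_mem (⟨_, hXA n hnΓ⟩ : ↥A) hhN
    have hg'o : order g' = ((c' - 1 : ℕ) : ℕ∞) := by
      rw [hg', order_mul, order_X_pow, hho, ← Nat.cast_add]
      congr 1
      omega
    have hg'0 : g' ≠ 0 := by
      intro h0
      rw [h0, order_zero] at hg'o
      exact ENat.top_ne_coe _ hg'o
    have hg'c : coeff (c' - 1) g' ≠ 0 := by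
      have h1 := coeff_order hg'0
      rwa [hg'o, ENat.toNat_coe] at h1
    set lam : k := coeff (c' - 1) f / coeff (c' - 1) g' with hlam
    have hdiff : (c' : ℕ∞) ≤ order (f - lam • g') := by
      apply nat_le_order
      intro i hi
      rw [map_sub, map_smul, smul_eq_mul]
      by_cases hic : i = c' - 1
      · rw [hic, hlam, div_mul_cancel₀ _ hg'c, sub_self]
      · have hi' : i < c' - 1 := by omega
        have h1 : coeff i f = 0 :=
          coeff_of_lt_order i (lt_of_lt_of_le (by exact_mod_cast hi') hf)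
        have h2 : coeff i g' = 0 :=
          coeff_of_lt_order i (by rw [hg'o]; exact_mod_cast hi')
        rw [h1, h2, mul_zero, sub_zero]
    have h4 : f - lam • g' ∈ N₁ := hPc' _ hdiff
    have h5 : lam • g' ∈ N₁.restrictScalars k :=
      (N₁.restrictScalars k).smul_mem lam hg'N
    have h6 : f = (f - lam • g') + lam • g' := by abel
    rw [h6]
    exact N₁.add_mem h4 h5
  have hcount : c' ≤ Γᶜ.ncard + Δᶜ.ncard := by
    have h1 := Finset.card_filter_add_card_filter_not (s := Finset.range c') (fun n => n ∈ Γ)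
    have h2 : ((Finset.range c').filter (fun n => ¬ n ∈ Γ)).card ≤ Γᶜ.ncard := by
      rw [Set.ncard_eq_toFinset_card _ hfinΓ]
      apply Finset.card_le_card
      intro n hn
      rw [Finset.mem_filter] at hn
      rw [Set.Finite.mem_toFinset]
      exact hn.2
    have h3 : ((Finset.range c').filter (fun n => n ∈ Γ)).card ≤ Δᶜ.ncard := by
      rw [Set.ncard_eq_toFinset_card _ hfinΔ]
      apply Finset.card_le_card_of_injOn (fun n => c' - 1 - n)
      · intro n hn
        have hn' := Finset.mem_filter.mp (Finset.mem_coe.mp hn)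
        apply Finset.mem_coe.mpr
        rw [Set.Finite.mem_toFinset]
        exact hkey n hn'.2 (Finset.mem_range.mp hn'.1)
      · intro x hx y hy hxy
        have hx' := Finset.mem_range.mp (Finset.mem_filter.mp (Finset.mem_coe.mp hx)).1
        have hy' := Finset.mem_range.mp (Finset.mem_filter.mp (Finset.mem_coe.mp hy)).1
        simp only at hxy
        omega
    rw [Finset.card_range] at h1
    omega
  -- the lattice
  set δ := Γᶜ.ncard with hδ
  set e := δ - Δᶜ.ncard with he
  refine ⟨N₁.map (mulX A e), ?_, ⟨e₁.symm.trans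
    (Submodule.equivMapOfInjective (mulX A e) (mulX_injective A e) N₁)⟩, ?_⟩
  · intro f hf
    rw [Submodule.restrictScalars_mem, Ideal.mem_span_singleton] at hf
    obtain ⟨h, rfl⟩ := hf
    refine Submodule.mem_map.mpr ⟨(X : PowerSeries k) ^ (2 * δ - e) * h, hPc' _ ?_, ?_⟩
    · rw [order_mul, order_X_pow]
      refine le_trans ?_ le_self_add
      have : c' ≤ 2 * δ - e := by omega
      exact_mod_cast this
    · rw [mulX_apply, ← mul_assoc, ← pow_add]
      congr 2
      omega
  · -- dimension count through the value set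
    have hcontain : ∀ f : PowerSeries k, ((2 * δ : ℕ) : ℕ∞) ≤ order f →
        f ∈ (N₁.map (mulX A e)).restrictScalars k := by
      intro f hf
      obtain ⟨h, rfl⟩ := X_pow_dvd_of_le_order f (2 * δ) hf
      rw [Submodule.restrictScalars_mem]
      refine Submodule.mem_map.mpr ⟨(X : PowerSeries k) ^ (2 * δ - e) * h, hPc' _ ?_, ?_⟩
      · rw [order_mul, order_X_pow]
        refine le_trans ?_ le_self_add
        have : c' ≤ 2 * δ - e := by omega
        exact_mod_cast this
      · rw [mulX_apply, ← mul_assoc, ← pow_add]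
        congr 2
        omega
    set Δ' : Set ℕ := {m | ∃ f ∈ (N₁.map (mulX A e)).restrictScalars k, order f = (m : ℕ∞)}
      with hΔ'def
    have hfr := (Groth.Agent.H2.ValSemigroup.finrank_quotient_eq_ncard_gaps
      ((N₁.map (mulX A e)).restrictScalars k) (2 * δ) hcontain Δ' (fun m => Iff.rfl)).2
    rw [hfr]
    -- describe Δ'
    have hΔ' : ∀ m : ℕ, m ∈ Δ' ↔ ∃ n ∈ Δ, m = e + n := by
      intro m
      constructor
      · rintro ⟨f, hf, hfo⟩
        rw [Submodule.restrictScalars_mem] at hf
        obtain ⟨h, hhN, rfl⟩ := Submodule.mem_map.mp hf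
        rw [mulX_apply, order_mul, order_X_pow] at hfo
        have hh0 : h ≠ 0 := by
          rintro rfl
          rw [order_zero] at hfo
          simp at hfo
        refine ⟨(order h).toNat, ⟨h, hhN, (coe_toNat_order hh0).symm⟩, ?_⟩
        rw [← coe_toNat_order hh0] at hfo
        exact_mod_cast hfo.symm
      · rintro ⟨n, ⟨h, hhN, hho⟩, rfl⟩
        refine ⟨(X : PowerSeries k) ^ e * h, ?_, ?_⟩
        · rw [Submodule.restrictScalars_mem]
          exact Submodule.mem_map.mpr ⟨h, hhN, rfl⟩
        · rw [order_mul, order_X_pow, hho, Nat.cast_add]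
    have hcompl : Δ'ᶜ = (↑(Finset.range e) : Set ℕ) ∪ (fun n => e + n) '' Δᶜ := by
      ext m
      simp only [Set.mem_compl_iff, Set.mem_union, Finset.coe_range, Set.mem_Iio, Set.mem_image]
      rw [hΔ']
      constructor
      · intro hm
        by_cases hme : m < e
        · exact Or.inl hme
        · refine Or.inr ⟨m - e, fun hmem => hm ⟨m - e, hmem, by omega⟩, by omega⟩
      · rintro (hme | ⟨n, hn, rfl⟩)
        · rintro ⟨n, _, rfl⟩
          omega
        · rintro ⟨n', hn', hnn'⟩
          have : n = n' := by omega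
          exact hn (this ▸ hn')
    have hdisj : Disjoint (↑(Finset.range e) : Set ℕ) ((fun n => e + n) '' Δᶜ) := by
      rw [Set.disjoint_left]
      rintro m hm ⟨n, _, rfl⟩
      simp only [Finset.coe_range, Set.mem_Iio] at hm
      omega
    rw [hcompl, Set.ncard_union_eq hdisj (Finset.finite_toSet _) (hfinΔ.image _),
      Set.ncard_coe_finset, Finset.card_range,
      Set.ncard_image_of_injective _ (fun x y hxy => by simpa using hxy)]
    omega

end main

end Groth.Agent.H8.TFCurv
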